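import Cfsg.Agent.Lib.Spor.Cos.Words

/-! Data and checks for the outer automorphisms of the Held group. -/

set_option autoImplicit false
set_option maxRecDepth 100000
set_option maxHeartbeats 4000000

namespace Cfsg.Agent.Spor.Cos.HeOut

/-- Representatives of the second generator. -/
def yW : List (List ℕ) := [[3], [2, 1, 3, 2, 3, 5, 3, 2, 3, 1, 2], [2, 1, 3, 2, 3, 5, 3, 2, 3, 1, 2, 3, 2, 1, 3, 2, 3, 5, 3, 2, 3, 1, 2], [6, 3, 2, 3, 2, 0, 5, 1, 2, 3, 6, 4, 3, 5, 4, 2, 3, 1, 2, 3, 6], [5, 3, 6, 2, 3, 2, 3, 0, 1, 2, 3, 6, 4, 3, 2, 3, 1, 2, 3, 2, 3, 6, 3, 5], [2, 3, 6, 3, 2, 3, 1, 2, 3, 2, 1, 3, 2, 3, 4, 2, 3, 5, 1, 2, 3, 6, 4, 1, 2, 1], [6, 3, 2, 3, 6, 4, 2, 1, 3, 2, 3, 5, 3, 2,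 3, 4, 3, 1, 2, 3, 2, 3, 6], [3, 1, 2, 3, 5, 1, 2, 3, 4, 1, 2, 3, 2, 0, 3, 1, 2, 3, 5, 4, 3, 6, 2, 3, 1, 2, 3, 4, 2], [5, 1, 2, 3, 2, 5, 3, 2, 3, 5, 3, 1, 2, 3, 2, 3, 5, 3, 2, 1], [3, 1, 2, 3, 5, 3, 2, 3, 2, 3, 5, 3, 1, 2, 3, 2, 3, 5, 3, 2, 3, 1], [1, 2, 3, 5, 1, 2, 3, 4, 1, 2, 3, 2, 3, 0, 1, 2, 3, 5, 4, 3, 6, 2, 3, 1, 2, 3, 4, 2, 3], [5, 3, 6, 3, 5, 3, 2, 3, 0, 5, 6, 3, 1, 2, 3, 5, 2, 3, 1, 2, 3, 2, 3, 4], [3, 2, 3, 6, 3, 2, 3, 1, 2, 3, 2, 3, 1, 2, 3, 4, 2, 3, 5, 1, 2, 3, 6, 4, 1, 2, 3, 1], [3, 5, 3, 6, 2, 3, 2, 3, 0, 1, 2, 3, 6, 4, 3, 2, 3, 1, 2, 3, 2, 3, 6, 3, 5, 3], [3, 6, 3, 2, 3, 5, 2, 0, 1, 2, 3, 6, 4, 3, 5, 4, 2, 3, 1, 2, 3, 6, 3], [3, 2, 3, 1, 2, 3, 5, 3, 2, 1, 3, 2, 3,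 2, 3, 1, 2, 3, 5, 3, 2, 3, 1, 2, 3], [3, 2, 3, 1, 2, 3, 5, 3, 2, 3, 1, 2, 3]]

/-- Relations in three generators with their exponents. -/
def relW : List (List ℕ × ℕ) := [([0, 1, 2, 1, 2, 1], 3), ([0, 1, 2], 21)]

/-- The two standard triples. -/
def baseW : List (List (List ℕ)) := [[[3], [2, 1, 3, 2, 3, 5, 3, 2, 3, 1, 2], [1, 6, 3, 2, 3, 6, 1]], [[3], [6, 3, 2, 3, 2, 0, 5, 1, 2, 3, 6, 4, 3, 5, 4, 2, 3, 1, 2, 3, 6], [3, 1, 5, 3, 2, 3, 5, 2, 3, 2, 3, 5, 3, 2, 3, 2, 1]]]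

/-- The remaining pairs with a conjugator and a case. -/
def survW : List (ℕ × ℕ × List ℕ × ℕ) := [(1, 10, [], 0), (2, 64, [4, 3, 6, 2, 3, 5, 4, 3, 6, 4, 2, 0, 3, 1, 2, 3, 5, 4, 3, 2, 3, 6, 1, 2, 3, 5, 0], 0), (3, 483, [], 1), (4, 2, [6, 5, 3, 6, 5, 3, 0, 1, 2, 3, 6, 4, 3, 1, 2, 3, 5, 6, 3, 5, 6, 1], 0), (5, 178, [6, 5, 3, 6, 5, 3, 1, 2, 3, 6, 4, 3, 1, 2, 3, 5, 6, 3, 5, 6, 1, 0], 1), (6, 447, [4, 3, 6, 2, 3, 5, 4, 3, 6, 4, 2, 0, 3, 1, 2, 3, 5, 4, 3, 2, 3, 6, 1, 2, 3, 5, 0], 1), (7, 277, [5, 2, 3, 6, 3, 2, 3, 5, 2, 3, 0, 1, 2, 3, 2, 3, 6, 3, 2, 3, 1, 2, 3, 6, 1, 2, 0], 1), (8, 84, [5, 2, 3, 6, 3, 2, 3, 5, 2, 3, 0, 1, 2, 3, 2, 3, 6, 3, 2, 3, 1, 2, 3, 6, 1, 2, 0], 0), (9, 84, [5,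 3, 1, 2, 3, 5, 6, 3, 0, 1, 2, 1, 3, 6, 5, 3, 2, 3, 5, 4, 3, 6, 1, 2, 3, 4, 0], 0), (10, 277, [5, 3, 1, 2, 3, 5, 6, 3, 0, 1, 2, 1, 3, 6, 5, 3, 2, 3, 5, 4, 3, 6, 1, 2, 3, 4, 0], 1), (11, 447, [4, 3, 6, 2, 3, 5, 4, 3, 6, 5, 2, 0, 3, 1, 2, 3, 5, 4, 3, 2, 3, 6, 1, 2, 3, 5, 0], 1), (12, 178, [6, 5, 3, 6, 5, 3, 0, 1, 2, 3, 6, 4, 3, 1, 2, 3, 5, 6, 3, 5, 6, 1], 1), (13, 2, [6, 5, 3, 6, 5, 3, 1, 2, 3, 6, 4, 3, 1, 2, 3, 5, 6, 3, 5, 6, 1, 0], 0), (14, 483, [3], 1), (15, 64, [4, 3, 6, 2, 3, 5, 4, 3, 6, 5, 2, 0, 3, 1, 2, 3, 5, 4, 3, 2, 3, 6, 1, 2, 3, 5, 0], 0), (16, 10, [3], 0)]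

/-- The generators in three others. -/
def exprW : List (List ℕ) := [[2, 0, 1, 2, 1, 2, 0, 1, 0, 1, 0, 1, 2, 0, 1, 2, 0, 1, 2, 1, 2, 0, 1, 2, 0, 1, 0, 1, 0, 1, 2, 0, 1, 2, 1, 2], [2, 1, 2, 1, 2, 0, 1, 2, 0, 1, 2, 1, 0, 1, 0, 1, 0, 1, 2, 1, 2, 1, 0, 1, 0, 1, 2, 0, 1, 2, 1, 2, 0, 1, 0, 1, 0, 1, 2, 0, 1, 2, 1, 2], [2, 1, 2, 0, 1, 2, 0, 1, 2, 1, 0, 1, 0, 1, 0, 1, 0, 1, 2, 1, 2, 1, 2, 1, 0, 1, 0, 1, 0, 1, 0, 1, 2, 1, 2, 0, 1, 2, 0, 1, 2], [0], [0, 1, 0, 1, 2, 1, 2, 0, 1, 0, 1, 2, 0, 1, 0, 1, 0, 1, 2, 1, 0, 2, 1, 0, 1, 0, 1, 2, 0, 1, 0, 1, 2, 0, 1, 0, 1, 0, 1, 2, 0, 1, 0, 1, 0, 1, 2, 1], [1, 2, 0, 1, 2, 0, 1, 0, 1, 0, 1, 0, 1, 2, 1, 2, 0, 1, 0, 1, 2, 0, 1, 0, 1, 2, 0, 1, 0, 1, 2, 0,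 1, 2, 1, 0, 1, 0, 1, 0, 1, 2, 0, 1, 2, 0, 1], [2, 1, 2, 1, 2, 1, 0, 1, 0, 1, 0, 1, 2, 0, 1, 0, 1, 0, 1, 0, 1, 0, 1, 0, 1, 2, 0, 1, 0, 1, 2, 1, 2, 1, 2, 1, 2, 0, 1, 0, 1, 2, 0, 1, 0, 1]]

/-- The images under the outer automorphism. -/
def imgW : List (List ℕ) := [[0, 6, 3, 5, 1, 2, 3, 6, 4, 3, 5, 4, 2, 3, 6, 1], [4, 3, 2, 3, 6, 4, 3, 1, 2, 3, 6, 4, 3, 1, 2, 3, 4], [4, 2, 3, 2, 3, 6, 3, 5, 0, 1, 2, 3, 5, 2, 3, 2, 3, 5, 3, 1, 2, 3, 4, 1, 2], [3], [3, 2, 3, 6, 2, 3, 0, 1, 2, 3, 5, 3, 1, 2, 3, 6, 1, 2, 3, 2, 3, 0], [5, 4, 3, 6, 5, 3, 2, 1, 3, 2, 3, 5, 3, 2, 3, 1, 2, 3, 5, 6, 3, 5, 4], [4, 1, 2, 3, 5, 2, 0, 3, 1, 2, 3, 4, 1, 2, 3, 5, 1, 2, 3, 4, 2, 1]]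

end Cfsg.Agent.Spor.Cos.HeOut
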