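import Cfsg.Agent.Lib.Spor.Cos.CentCert
import Cfsg.Agent.Lib.Spor.Cos.He.ActAData
import Cfsg.Agent.Lib.Spor.Cos.HeOut.Data

/-! Data and checks for the outer automorphisms of the Held group. -/

set_option autoImplicit false
set_option maxRecDepth 100000
set_option maxHeartbeats 4000000

namespace Cfsg.Agent.Spor.Cos.HeOut

/-- Base points. -/
def ptsA : List ℕ := [0, 1, 2, 3, 5, 8, 1435]

/-- Two words give the same element. -/
noncomputable def same (v w : List ℕ) : Bool :=
  (v.all fun s => Nat.blt s 7) && (w.all fun s => Nat.blt s 7) && agree He.actA ptsA v w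

/-- The product of the two involutions. -/
def u0 : List ℕ := [3] ++ ((baseW.getD 0 []).getD 1 [])

/-- A word in three generators. -/
def subW (X : List (List ℕ)) (w : List ℕ) : List ℕ := (w.map fun s => X.getD s []).flatten

end Cfsg.Agent.Spor.Cos.HeOut
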