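import Cfsg.Agent.Lib.Spor.Cos.HeOut.Base
import Cfsg.Agent.Lib.Spor.Cos.HeOut.CentData

/-! Data and checks for the outer automorphisms of the Held group. -/

set_option autoImplicit false
set_option maxRecDepth 100000
set_option maxHeartbeats 4000000

namespace Cfsg.Agent.Spor.Cos.HeOut

theorem q_chk : qL.chk He.actA [0, 1, 2, 3, 5, 8, 1435] = true := by decide +kernel

theorem h_chk : hL.chk He.actA [0, 1, 2, 3, 5, 8, 1435] = true := by decide +kernel

/-- The words commute with the involution. -/
noncomputable def commOk (L : ListGrp) : Bool := L.W.all fun w => same (w ++ [3]) ([3] ++ w)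

theorem q_comm : commOk qL = true := by decide +kernel

theorem h_comm : commOk hL = true := by decide +kernel

theorem disjoint_chk : ((hL.W.map fun w => imKey He.actA w ptsA).all fun k =>
    Nat.beq k (imKey He.actA [] ptsA) || !((qL.W.map fun w => imKey He.actA w ptsA).any (Nat.beq k))) = true := by
  decide +kernel

end Cfsg.Agent.Spor.Cos.HeOut
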