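import Cfsg.Agent.Lib.Spor.Cos.HeOut.InvolDef

/-! Data and checks for the outer automorphisms of the Held group. -/

set_option autoImplicit false
set_option maxRecDepth 100000
set_option maxHeartbeats 4000000

namespace Cfsg.Agent.Spor.Cos.HeOut

theorem chkInvol_b0 : allBlock chkInvol 21504 1024 0 = true := by decide +kernel

theorem chkInvol_b1 : allBlock chkInvol 21504 1024 1 = true := by decide +kernel

theorem chkInvol_b2 : allBlock chkInvol 21504 1024 2 = true := by decide +kernel

theorem chkInvol_b3 : allBlock chkInvol 21504 1024 3 = true := by decide +kernel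

end Cfsg.Agent.Spor.Cos.HeOut
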