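import Cfsg.Agent.Lib.Spor.Cos.HeOut.Invol0
import Cfsg.Agent.Lib.Spor.Cos.HeOut.Invol1
import Cfsg.Agent.Lib.Spor.Cos.HeOut.Invol2
import Cfsg.Agent.Lib.Spor.Cos.HeOut.Invol3
import Cfsg.Agent.Lib.Spor.Cos.HeOut.Invol4
import Cfsg.Agent.Lib.Spor.Cos.HeOut.Invol5

/-! Data and checks for the outer automorphisms of the Held group. -/

set_option autoImplicit false
set_option maxRecDepth 100000
set_option maxHeartbeats 4000000

namespace Cfsg.Agent.Spor.Cos.HeOut

theorem chkInvol_ok : ∀ i < 21504, chkInvol i = true := by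
  refine of_blocks (size := 1024) (b := 21) (by decide) (by decide) fun j hj => ?_
  interval_cases j
  · exact chkInvol_b0
  · exact chkInvol_b1
  · exact chkInvol_b2
  · exact chkInvol_b3
  · exact chkInvol_b4
  · exact chkInvol_b5
  · exact chkInvol_b6
  · exact chkInvol_b7
  · exact chkInvol_b8
  · exact chkInvol_b9
  · exact chkInvol_b10
  · exact chkInvol_b11
  · exact chkInvol_b12
  · exact chkInvol_b13
  · exact chkInvol_b14
  · exact chkInvol_b15
  · exact chkInvol_b16
  · exact chkInvol_b17
  · exact chkInvol_b18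
  · exact chkInvol_b19
  · exact chkInvol_b20

end Cfsg.Agent.Spor.Cos.HeOut
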