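import Cfsg.Agent.Lib.Spor.Cos.ListGroup
import Cfsg.Agent.Lib.Spor.Cos.HeOut.Base
import Cfsg.Agent.Lib.Spor.Cos.HeOut.CentData

/-! Data and checks for the outer automorphisms of the Held group. -/

set_option autoImplicit false
set_option maxRecDepth 100000
set_option maxHeartbeats 4000000

namespace Cfsg.Agent.Spor.Cos.HeOut

/-- The involutions of the centraliser are listed. -/
noncomputable def chkInvol (n : ℕ) : Bool :=
  (fun w : List ℕ => !(agree He.actA ptsA (w ++ w) []) || agree He.actA ptsA w [] ||
    force (invIdx.at n) fun j => Nat.blt j 575 && same w (invW.getD j []))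
    (qL.W.getD (n / 168) [] ++ hL.W.getD (n % 168) [])

end Cfsg.Agent.Spor.Cos.HeOut
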