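import Cfsg.Agent.Lib.Spor.Cos.HeOut.Base
import Cfsg.Agent.Lib.Spor.Cos.HeOut.CentData
import Cfsg.Agent.Lib.Spor.Cos.HeOut.SylData
import Cfsg.Agent.Lib.Spor.Cos.HeOut.SubData
import Cfsg.Agent.Lib.Spor.Cos.He.Words

/-! Data and checks for the outer automorphisms of the Held group. -/

set_option autoImplicit false
set_option maxRecDepth 100000
set_option maxHeartbeats 4000000

namespace Cfsg.Agent.Spor.Cos.HeOut

/-- A listed pair is a conjugate of one of the two standard triples. -/
noncomputable def chkSurv (o : ℕ × ℕ × List ℕ × ℕ) : Bool :=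
  match o with
  | (i, j, c, k) => Nat.blt j 575 && Nat.blt k 2 && (c.all fun s => Nat.blt s 7) &&
      (fun X : List (List ℕ) => same (c ++ ([3] ++ c.reverse)) [3] &&
        same (c ++ (X.getD 1 [] ++ c.reverse)) (yW.getD i []) &&
        same (c ++ (X.getD 2 [] ++ c.reverse)) (invW.getD j [])) (baseW.getD k [])

theorem surv_chk : survW.all chkSurv = true := by decide +kernel

theorem y_chk : ((List.range 17).all fun i => same ([3] ++ (List.replicate i u0).flatten) (yW.getD i [])) = true := by
  decide +kernel

theorem expr_chk : ((List.range 7).all fun s => same (subW (baseW.getD 0 []) (exprW.getD s [])) [s]) = true := by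
  decide +kernel

theorem rel_chk : (relW.all fun r => same (subW (baseW.getD 0 []) (List.replicate r.2 r.1).flatten) []) = true := by
  decide +kernel

theorem img_sq : ((List.range 7).all fun s => same (imgW.getD s [] ++ imgW.getD s []) []) = true := by decide +kernel

theorem img_expr : ((List.range 7).all fun s => same (imgW.getD s []) (subW (baseW.getD 1 []) (exprW.getD s []))) = true := by
  decide +kernel

theorem img_rels : (He.words.all fun r => r.all (fun s => Nat.blt s 7) && same (subW imgW r) []) = true := by decide +kernel

theorem img_base : ((List.range 3).all fun s =>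
    same (subW imgW ((baseW.getD 0 []).getD s [])) ((baseW.getD 1 []).getD s [])) = true := by decide +kernel

theorem base_chk : ((List.range 2).all fun k => (fun X : List (List ℕ) =>
    same (X.getD 0 []) [3] && same (X.getD 1 [] ++ X.getD 1 []) [] && same (X.getD 2 [] ++ X.getD 2 []) [] &&
    !(agree He.actA ptsA (X.getD 2 []) []) && same (X.getD 2 [] ++ [3]) ([3] ++ X.getD 2 []) &&
    X.all fun w => w.all fun s => Nat.blt s 7) (baseW.getD k [])) = true := by decide +kernel

theorem u0_chk : (same (List.replicate 17 u0).flatten [] && !(agree He.actA ptsA u0 []) &&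
    same ([3] ++ (u0 ++ [3])) u0.reverse && same ([3] ++ u0) ((baseW.getD 0 []).getD 1 []) &&
    same ((baseW.getD 1 []).getD 1 []) ([3] ++ (List.replicate 3 u0).flatten)) = true := by decide +kernel

theorem five_chk : (same ([0] ++ [3, 2, 0]) ([3, 2, 0] ++ [0]) && !(agree He.actA ptsA [3, 2, 0] []) &&
    same (List.replicate 5 [3, 2, 0]).flatten []) = true := by decide +kernel

theorem cyc_len : cycL.length = 17 := rfl

end Cfsg.Agent.Spor.Cos.HeOut
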