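import Mathlib

/-!
Two-elements of a linear group in five dimensions over the field with two elements.
-/

set_option autoImplicit false

namespace Cfsg.Agent.Spor.Cos.HeOut

open Polynomial in
theorem pow_eight_eq_one {M : Matrix (Fin 5) (Fin 5) (ZMod 2)} (h : M ^ 16 = 1) : M ^ 8 = 1 := by
  haveI : Fact (Nat.Prime 2) := ⟨Nat.prime_two⟩
  have e : ∀ k, (M + 1) ^ 2 ^ k = M ^ 2 ^ k + 1 := fun k => by
    rw [add_pow_char_pow_of_commute 2 k (Commute.one_right M), one_pow]
  have hn : IsNilpotent (M + 1) := ⟨16, by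
    rw [show (16 : ℕ) = 2 ^ 4 from rfl, e, show (2 : ℕ) ^ 4 = 16 from rfl, h, CharTwo.add_self_eq_zero]⟩
  have hp : (M + 1).charpoly = X ^ 5 := by
    have := Matrix.isNilpotent_charpoly_sub_pow_of_isNilpotent hn
    rw [isNilpotent_iff_eq_zero, sub_eq_zero, Fintype.card_fin] at this
    exact this
  have h5 : (M + 1) ^ 5 = 0 := by
    have := Matrix.aeval_self_charpoly (M + 1)
    rwa [hp, map_pow, aeval_X] at this
  have h8 : (M + 1) ^ 8 = 0 := by rw [show (8 : ℕ) = 5 + 3 from rfl, pow_add, h5, zero_mul]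
  rw [show (8 : ℕ) = 2 ^ 3 from rfl, e, show (2 : ℕ) ^ 3 = 8 from rfl] at h8
  calc M ^ 8 = M ^ 8 + (1 + 1) := by rw [CharTwo.add_self_eq_zero, add_zero]
    _ = 1 := by rw [← add_assoc, h8, zero_add]

end Cfsg.Agent.Spor.Cos.HeOut
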