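import Cfsg.Agent.Lib.Spor.Cos.HeOut.PairDef

/-! Data and checks for the outer automorphisms of the Held group. -/

set_option autoImplicit false
set_option maxRecDepth 100000
set_option maxHeartbeats 4000000

namespace Cfsg.Agent.Spor.Cos.HeOut

theorem chkPair_b15 : allBlock chkPair 9775 512 15 = true := by decide +kernel

theorem chkPair_b16 : allBlock chkPair 9775 512 16 = true := by decide +kernel

theorem chkPair_b17 : allBlock chkPair 9775 512 17 = true := by decide +kernel

end Cfsg.Agent.Spor.Cos.HeOut
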