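import Cfsg.Agent.Lib.Spor.Cos.HeOut.Pair0
import Cfsg.Agent.Lib.Spor.Cos.HeOut.Pair1
import Cfsg.Agent.Lib.Spor.Cos.HeOut.Pair2
import Cfsg.Agent.Lib.Spor.Cos.HeOut.Pair3
import Cfsg.Agent.Lib.Spor.Cos.HeOut.Pair4
import Cfsg.Agent.Lib.Spor.Cos.HeOut.Pair5
import Cfsg.Agent.Lib.Spor.Cos.HeOut.Pair6

/-! Data and checks for the outer automorphisms of the Held group. -/

set_option autoImplicit false
set_option maxRecDepth 100000
set_option maxHeartbeats 4000000

namespace Cfsg.Agent.Spor.Cos.HeOut

theorem chkPair_ok : ∀ i < 9775, chkPair i = true := by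
  refine of_blocks (size := 512) (b := 20) (by decide) (by decide) fun j hj => ?_
  interval_cases j
  · exact chkPair_b0
  · exact chkPair_b1
  · exact chkPair_b2
  · exact chkPair_b3
  · exact chkPair_b4
  · exact chkPair_b5
  · exact chkPair_b6
  · exact chkPair_b7
  · exact chkPair_b8
  · exact chkPair_b9
  · exact chkPair_b10
  · exact chkPair_b11
  · exact chkPair_b12
  · exact chkPair_b13
  · exact chkPair_b14
  · exact chkPair_b15
  · exact chkPair_b16
  · exact chkPair_b17
  · exact chkPair_b18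
  · exact chkPair_b19

end Cfsg.Agent.Spor.Cos.HeOut
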