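import Cfsg.Agent.Lib.Spor.Cos.HeOut.SylDef
import Cfsg.Agent.Lib.Spor.Cos.HeOut.PathData

/-! Data and checks for the outer automorphisms of the Held group. -/

set_option autoImplicit false
set_option maxRecDepth 100000
set_option maxHeartbeats 4000000

namespace Cfsg.Agent.Spor.Cos.HeOut

/-- Letters packed four bits each. -/
noncomputable def decFour (fuel E : ℕ) : List ℕ :=
  Nat.rec (motive := fun _ => ℕ → List ℕ) (fun _ => [])
    (fun _ r E => bif Nat.beq E 0 then [] else (E % 16 - 1) :: r (E >>> 4)) fuel E

/-- An element of the list is a product of the generators. -/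
noncomputable def chkPath (i : ℕ) : Bool :=
  (fun L : List ℕ => (L.all fun t => Nat.blt t sylG.length) &&
    same (decWord 30 (sylU.at i)) (L.map fun t => sylG.getD t []).flatten) (decFour 7 (sylPath.at i))

theorem path_ok : ∀ i < 1024, chkPath i = true := by
  refine of_blocks (size := 256) (b := 4) (by decide) (by decide) fun j hj => ?_
  interval_cases j <;> decide +kernel

theorem fact_two : (4030387200 : ℕ).factorization 2 = 10 := by
  rw [show (4030387200 : ℕ) = 2 ^ 10 * 3935925 by norm_num, Nat.factorization_mul (by norm_num) (by norm_num),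
    Finsupp.add_apply, Nat.Prime.factorization_pow Nat.prime_two, Finsupp.single_eq_same,
    Nat.factorization_eq_zero_of_not_dvd (show ¬ 2 ∣ 3935925 by norm_num)]

end Cfsg.Agent.Spor.Cos.HeOut
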