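import Cfsg.Agent.Lib.Spor.Cos.HeOut.SubDef

/-! Data and checks for the outer automorphisms of the Held group. -/

set_option autoImplicit false
set_option maxRecDepth 100000
set_option maxHeartbeats 4000000

namespace Cfsg.Agent.Spor.Cos.HeOut

theorem chkSubAll_b5 : allBlock chkSubAll 2058 256 5 = true := by decide +kernel

theorem chkSubAll_b6 : allBlock chkSubAll 2058 256 6 = true := by decide +kernel

theorem chkSubAll_b7 : allBlock chkSubAll 2058 256 7 = true := by decide +kernel

theorem chkSubAll_b8 : allBlock chkSubAll 2058 256 8 = true := by decide +kernel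

end Cfsg.Agent.Spor.Cos.HeOut
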