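import Cfsg.Agent.Lib.Spor.Cos.HeOut.Sub0
import Cfsg.Agent.Lib.Spor.Cos.HeOut.Sub1

/-! Data and checks for the outer automorphisms of the Held group. -/

set_option autoImplicit false
set_option maxRecDepth 100000
set_option maxHeartbeats 4000000

namespace Cfsg.Agent.Spor.Cos.HeOut

theorem chkSubAll_ok : ∀ i < 2058, chkSubAll i = true := by
  refine of_blocks (size := 256) (b := 9) (by decide) (by decide) fun j hj => ?_
  interval_cases j
  · exact chkSubAll_b0
  · exact chkSubAll_b1
  · exact chkSubAll_b2
  · exact chkSubAll_b3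
  · exact chkSubAll_b4
  · exact chkSubAll_b5
  · exact chkSubAll_b6
  · exact chkSubAll_b7
  · exact chkSubAll_b8

end Cfsg.Agent.Spor.Cos.HeOut
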