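import Cfsg.Agent.Lib.Spor.Cos.OutTwo
import Cfsg.Agent.Lib.Spor.Cos.He.IsSimple
import Cfsg.Agent.Lib.Spor.Cos.HeCent.Main
import Cfsg.Agent.Lib.Spor.Cos.HeOut.Order16
import Cfsg.Agent.Lib.Spor.Cos.HeOut.CentChk
import Cfsg.Agent.Lib.Spor.Cos.HeOut.Misc
import Cfsg.Agent.Lib.Spor.Cos.HeOut.SubAll
import Cfsg.Agent.Lib.Spor.Cos.HeOut.SylAll
import Cfsg.Agent.Lib.Spor.Cos.HeOut.InvolAll
import Cfsg.Agent.Lib.Spor.Cos.HeOut.PairAll
import Cfsg.Agent.Lib.Spor.Cos.HeOut.Path

/-!
The outer automorphism group of the presented Held group.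
-/

set_option autoImplicit false
set_option maxRecDepth 100000
set_option maxHeartbeats 1000000


namespace Cfsg.Agent.Spor.Cos.HeOut

open He (g g_sq g_gen homA)
open HeCent (z)

/-- The group. -/
local notation "P" => Cfsg.Spor.He

theorem eq_of_same {v w : List ℕ} (h : same v w = true) : ev g v = ev g w := by
  simp only [same, Bool.and_eq_true] at h
  exact ev_eq_of_agree homA He.det (by simpa [Act.lettersOk, He.actA] using h.1.1)
    (by simpa [Act.lettersOk, He.actA] using h.1.2) h.2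

theorem pts_lt : ∀ p ∈ [0, 1, 2, 3, 5, 8, 1435], p < He.actA.N := by decide +kernel

theorem agree_of_eq {v w : List ℕ} (hv : ∀ s ∈ v, s < 7) (hw : ∀ s ∈ w, s < 7) (e : ev g v = ev g w) :
    agree He.actA ptsA v w = true := by
  rw [agree, List.all_eq_true]
  intro p hp
  rw [force_eq]
  have hp' := pts_lt p hp
  have := congrArg (fun y : P => (He.piA y ⟨p, hp'⟩ : ℕ)) e
  simp only [homA.apply_ev v hv, homA.apply_ev w hw] at this
  rw [this]
  exact Nat.beq_refl _

theorem ne_of_not_agree {v w : List ℕ} (hv : ∀ s ∈ v, s < 7) (hw : ∀ s ∈ w, s < 7)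
    (h : agree He.actA ptsA v w = false) : ev g v ≠ ev g w := fun e => by
  rw [agree_of_eq hv hw e] at h
  exact Bool.noConfusion h

theorem card_P : Nat.card P = 4030387200 := He.card_eq

theorem z_mul_self : z * z = 1 := by
  show g 3 * 1 * (g 3 * 1) = 1
  rw [mul_one]; exact g_sq 3

theorem z_inv : z⁻¹ = z := inv_eq_of_mul_eq_one_right z_mul_self

theorem ok_q : qL.Ok g := qL.ok_of_chk homA pts_lt He.det q_chk

theorem ok_h : hL.Ok g := hL.ok_of_chk homA pts_lt He.det h_chk

/-- The centraliser. -/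
abbrev Cz : Subgroup P := Subgroup.centralizer ({z} : Set P)

theorem el_mem {L : ListGrp} (hc : commOk L = true) {i : ℕ} (hi : i < L.m) : L.el g i ∈ Cz := by
  have := eq_of_same (List.all_eq_true.1 hc _ (List.getElem_mem (show i < L.W.length from hi)))
  rw [ev_append, ev_append] at this
  rw [ListGrp.el, List.getD_eq_getElem _ _ hi]
  exact Subgroup.mem_centralizer_singleton_iff.2 this

theorem letters_el {L : ListGrp} (hc : L.chk He.actA [0, 1, 2, 3, 5, 8, 1435] = true) {k : ℕ} (hk : k < L.m) :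
    ∀ s ∈ L.W.getD k [], s < 7 := by
  simp only [ListGrp.chk, Bool.and_eq_true] at hc
  rw [List.getD_eq_getElem _ _ hk]
  exact Act.lt_of_lettersOk hc.1.1.1 (List.getElem_mem _)

theorem disjoint_el {i j : ℕ} (hi : i < hL.m) (hj : j < qL.m) (e : hL.el g i = qL.el g j) : hL.el g i = 1 := by
  have hi' : i < hL.W.length := hi
  have hj' : j < qL.W.length := hj
  have kk : imKey He.actA hL.W[i] ptsA = imKey He.actA qL.W[j] ptsA := by
    refine imKey_congr fun p hp => ?_
    have := congrArg (fun y : P => (He.piA y ⟨p, pts_lt p hp⟩ : ℕ)) e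
    simp only [ListGrp.el, homA.apply_ev _ (letters_el h_chk hi), homA.apply_ev _ (letters_el q_chk hj)] at this
    rwa [List.getD_eq_getElem _ _ hi', List.getD_eq_getElem _ _ hj'] at this
  have h := List.all_eq_true.1 disjoint_chk _ (List.mem_map_of_mem (List.getElem_mem hi'))
  rw [Bool.or_eq_true, Bool.not_eq_true'] at h
  rcases h with h | h
  · have e3 := Nat.eq_of_beq_eq_true h
    refine He.det _ fun q hq => Fin.ext ?_
    rw [ListGrp.el, homA.apply_ev _ (letters_el h_chk hi), List.getD_eq_getElem _ _ hi']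
    have b : ∀ p ∈ [0, 1, 2, 3, 5, 8, 1435], He.actA.go hL.W[i] p < 65536 := fun p hp => by
      have hl := letters_el h_chk hi
      rw [List.getD_eq_getElem _ _ hi'] at hl
      rw [← homA.apply_ev _ hl ⟨p, pts_lt p hp⟩]
      exact lt_of_lt_of_le (Fin.isLt _) (by decide +kernel)
    have b0 := b 0 (by decide)
    have b1 := b 1 (by decide)
    have b2 := b 2 (by decide)
    have b3 := b 3 (by decide)
    have b5 := b 5 (by decide)
    have b8 := b 8 (by decide)
    have b14 := b 1435 (by decide)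
    simp only [imKey, ptsA, Act.go_nil] at e3
    have key : ∀ p ∈ [0, 1, 2, 3, 5, 8, 1435], He.actA.go hL.W[i] p = p := by
      intro p hp
      simp only [List.mem_cons, List.not_mem_nil, or_false] at hp
      rcases hp with rfl | rfl | rfl | rfl | rfl | rfl | rfl <;> omega
    exact key _ hq
  · rw [List.any_eq_false] at h
    exact absurd (kk ▸ Nat.beq_refl _) (h _ (List.mem_map_of_mem (List.getElem_mem hj')))

theorem cent_products : Nat.card Cz = 21504 ∧ ∀ c ∈ Cz, ∃ q < qL.m, ∃ h < hL.m, c = qL.el g q * hL.el g h := by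
  let f : Fin qL.m × Fin hL.m → Cz := fun p =>
    ⟨qL.el g p.1 * hL.el g p.2, mul_mem (el_mem q_comm p.1.2) (el_mem h_comm p.2.2)⟩
  have hf : Function.Injective f := by
    rintro ⟨a, b⟩ ⟨c, d⟩ e
    have e1 : qL.el g a * hL.el g b = qL.el g c * hL.el g d := congrArg Subtype.val e
    have e2 : (qL.el g c)⁻¹ * qL.el g a = hL.el g d * (hL.el g b)⁻¹ := by
      rw [eq_mul_inv_iff_mul_eq, mul_assoc, e1, inv_mul_cancel_left]
    have hq : (qL.el g c)⁻¹ * qL.el g a ∈ qL.grp g :=
      mul_mem (inv_mem (Subgroup.subset_closure ⟨c, c.2, rfl⟩)) (Subgroup.subset_closure ⟨a, a.2, rfl⟩)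
    have hh : hL.el g d * (hL.el g b)⁻¹ ∈ hL.grp g :=
      mul_mem (Subgroup.subset_closure ⟨d, d.2, rfl⟩) (inv_mem (Subgroup.subset_closure ⟨b, b.2, rfl⟩))
    obtain ⟨j, hj, ej⟩ := (ListGrp.mem_grp ok_q).1 hq
    obtain ⟨i, hi, ei⟩ := (ListGrp.mem_grp ok_h).1 hh
    have h1 : hL.el g i = 1 := disjoint_el hi hj (ei.trans (e2.symm.trans ej.symm))
    rw [← ei, h1] at e2
    have ha : qL.el g c = qL.el g a := inv_mul_eq_one.1 e2
    have hb : hL.el g d = hL.el g b := mul_inv_eq_one.1 (by rw [← ei, h1])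
    exact Prod.ext (Fin.ext (ok_q.inj _ a.2 _ c.2 ha.symm)) (Fin.ext (ok_h.inj _ b.2 _ d.2 hb.symm))
  have hcard : Nat.card (Fin qL.m × Fin hL.m) = 21504 := by
    rw [Nat.card_prod, Nat.card_fin, Nat.card_fin]; rfl
  have hle : Nat.card Cz ≤ Nat.card (Fin qL.m × Fin hL.m) := hcard ▸ HeCent.card_centralizer_z_le
  have hb := hf.bijective_of_nat_card_le hle
  refine ⟨by rw [← Nat.card_eq_of_bijective f hb, hcard], fun c hc => ?_⟩
  obtain ⟨⟨a, b⟩, e⟩ := hb.2 ⟨c, hc⟩
  exact ⟨a, a.2, b, b.2, (congrArg Subtype.val e).symm⟩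

theorem card_Cz : Nat.card Cz = 21504 := cent_products.1

/-- The other class. -/
noncomputable def z' : P := ev g [0]

theorem not_conj : ¬ IsConj z z' := by
  intro h
  obtain ⟨c, hc⟩ := isConj_iff.1 h
  have hch := five_chk
  simp only [Bool.and_eq_true, Bool.not_eq_true'] at hch
  haveI : Fact (Nat.Prime 5) := ⟨by norm_num⟩
  have o5 : orderOf (ev g [3, 2, 0]) = 5 := by
    refine orderOf_eq_prime ?_ (ne_of_not_agree (by decide) (by simp) hch.1.2)
    rw [← ev_power]
    exact eq_of_same hch.2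
  have hm : c⁻¹ * ev g [3, 2, 0] * c ∈ Cz := by
    have hcu := eq_of_same hch.1.1
    rw [ev_append, ev_append] at hcu
    change z' * _ = _ * z' at hcu
    rw [Subgroup.mem_centralizer_singleton_iff]
    rw [← hc] at hcu
    calc c⁻¹ * ev g [3, 2, 0] * c * z = c⁻¹ * (ev g [3, 2, 0] * (c * z * c⁻¹)) * c := by group
      _ = c⁻¹ * (c * z * c⁻¹ * ev g [3, 2, 0]) * c := by rw [hcu]
      _ = z * (c⁻¹ * ev g [3, 2, 0] * c) := by group
  have h17 := Subgroup.orderOf_dvd_natCard _ hm
  rw [card_Cz, show c⁻¹ * ev g [3, 2, 0] * c = MulAut.conj c⁻¹ (ev g [3, 2, 0]) by simp, MulEquiv.orderOf_eq, o5] at h17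
  norm_num at h17

theorem syl : ∀ i < 1024, chkClosedList He.actA ptsA 30 sylU sylK sylStep sylG 1024 i = true ∧
    (!(agree He.actA ptsA (decWord 30 (sylU.at i) ++ decWord 30 (sylU.at i)) []) || Nat.beq i sylOne ||
      force (conjU.at i) fun E => (fun c : List ℕ =>
        same (c ++ ((bif Nat.beq (E % 2) 0 then [3] else [0]) ++ c.reverse)) (decWord 30 (sylU.at i)))
          (decWord 30 (E >>> 1))) = true := fun i hi => by
  have := chkSyl_ok i hi
  rwa [chkSyl, Bool.and_eq_true] at this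

theorem conj_cases {x : P} (hx : orderOf x = 2) : IsConj z x ∨ IsConj z' x := by
  haveI : Fact (Nat.Prime 2) := ⟨Nat.prime_two⟩
  have hone : ev g (decWord 30 (sylU.at sylOne)) = 1 := eq_of_same (w := []) (by decide +kernel)
  have hin0 : ∀ i < 1024, ∀ s ∈ decWord 30 (sylU.at i), s < 7 := fun i hi => by
    have := (syl i hi).1
    simp only [chkClosedList, force_eq, Bool.and_eq_true, List.all_eq_true] at this
    exact fun s hs => Nat.le_of_ble_eq_true (this.1.1.1 s hs)
  obtain ⟨mem, hcard⟩ := closedList homA pts_lt He.det (fun i hi => (syl i hi).1) (i0 := sylOne) (by decide +kernel) hone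
  set S0 := val g sylG
  have hS0 : Nat.card S0 = 1024 := hcard fun i hi => by
    have hp := path_ok i hi
    simp only [chkPath, Bool.and_eq_true, List.all_eq_true] at hp
    rw [eq_of_same hp.2, ev_flatten, List.map_map]
    refine list_prod_mem fun y hy => ?_
    obtain ⟨k, hk, rfl⟩ := List.mem_map.1 hy
    have hk' : k < sylG.length := Nat.le_of_ble_eq_true (hp.1 k hk)
    exact mem_val (w := sylG.getD k []) (by rw [List.getD_eq_getElem _ _ hk']; exact List.getElem_mem _)
  let S : Sylow 2 P := Sylow.ofCard S0 (by rw [hS0, card_P, fact_two]; norm_num)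
  have hp : IsPGroup 2 (Subgroup.zpowers x) :=
    IsPGroup.of_card (n := 1) (by rw [Nat.card_zpowers, hx, pow_one])
  obtain ⟨R, hR⟩ := hp.exists_le_sylow
  obtain ⟨c, hc⟩ := MulAction.exists_smul_eq P R S
  have hm : c * x * c⁻¹ ∈ S0 := by
    have : MulAut.conj c x ∈ (c • R : Sylow 2 P) := ⟨x, hR (Subgroup.mem_zpowers x), rfl⟩
    rw [hc] at this
    exact this
  obtain ⟨i, hi, ei⟩ := mem _ hm
  have hx2 : x * x = 1 := by
    have := pow_orderOf_eq_one x
    rwa [hx, sq] at this
  have hsq : ev g (decWord 30 (sylU.at i) ++ decWord 30 (sylU.at i)) = ev g [] := by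
    rw [ev_append, ei, show c * x * c⁻¹ * (c * x * c⁻¹) = c * (x * x) * c⁻¹ by group, hx2]
    simp [ev]
  have hag := agree_of_eq (fun s hs => (List.mem_append.1 hs).elim (hin0 i hi s) (hin0 i hi s)) (by simp) hsq
  have h := (syl i hi).2
  simp only [hag, Bool.not_true, Bool.false_or, Bool.or_eq_true, force_eq] at h
  rcases h with h | h
  · exfalso
    rw [Nat.eq_of_beq_eq_true h, hone] at ei
    have : x = 1 := by
      have : c⁻¹ * 1 * c = x := by rw [ei]; group
      simpa using this.symm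
    rw [this, orderOf_one] at hx
    exact absurd hx (by decide)
  · set cw := decWord 30 (conjU.at i >>> 1) with hcw
    have hl : ∀ s ∈ cw, s < 7 := fun s hs => by
      simp only [same, Bool.and_eq_true, List.all_append, List.all_eq_true] at h
      exact Nat.le_of_ble_eq_true (h.1.1.1 s hs)
    have hv := eq_of_same h
    rw [ev_append, ev_append, ev_reverse (fun s _ => g_sq s) _ hl, ← mul_assoc, ei] at hv
    have conc : ∀ w : P, ev g cw * w * (ev g cw)⁻¹ = c * x * c⁻¹ → IsConj w x := fun w e =>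
      isConj_iff.2 ⟨c⁻¹ * ev g cw, by
        calc c⁻¹ * ev g cw * w * (c⁻¹ * ev g cw)⁻¹ = c⁻¹ * (ev g cw * w * (ev g cw)⁻¹) * c := by group
          _ = x := by rw [e]; group⟩
    cases hb : Nat.beq (conjU.at i % 2) 0
    · rw [hb, Bool.cond_false] at hv; exact Or.inr (conc _ hv)
    · rw [hb, Bool.cond_true] at hv; exact Or.inl (conc _ hv)

theorem z_order : orderOf z = 2 := HeCent.z_order

theorem conj_z {x : P} (hx : orderOf x = 2) (hc : Nat.card (Subgroup.centralizer ({x} : Set P)) = 21504) :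
    IsConj z x := by
  rcases conj_cases hx with h | h
  · exact h
  exfalso
  obtain ⟨c, hc'⟩ := isConj_iff.1 h
  have hch := five_chk
  simp only [Bool.and_eq_true, Bool.not_eq_true'] at hch
  haveI : Fact (Nat.Prime 5) := ⟨by norm_num⟩
  have o5 : orderOf (ev g [3, 2, 0]) = 5 := by
    refine orderOf_eq_prime ?_ (ne_of_not_agree (by decide) (by simp) hch.1.2)
    rw [← ev_power]
    exact eq_of_same hch.2
  have hm : c * ev g [3, 2, 0] * c⁻¹ ∈ Subgroup.centralizer ({x} : Set P) := by
    have hcu := eq_of_same hch.1.1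
    rw [ev_append, ev_append] at hcu
    change z' * _ = _ * z' at hcu
    rw [Subgroup.mem_centralizer_singleton_iff, ← hc']
    calc c * ev g [3, 2, 0] * c⁻¹ * (c * z' * c⁻¹) = c * (ev g [3, 2, 0] * z') * c⁻¹ := by group
      _ = c * (z' * ev g [3, 2, 0]) * c⁻¹ := by rw [hcu]
      _ = c * z' * c⁻¹ * (c * ev g [3, 2, 0] * c⁻¹) := by group
  have h5 := Subgroup.orderOf_dvd_natCard _ hm
  rw [hc, ← MulAut.conj_apply, MulEquiv.orderOf_eq, o5] at h5
  norm_num at h5

/-- The product of two of the generators. -/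
noncomputable def u : P := ev g u0

/-- The second generator. -/
noncomputable def y0 : P := ev g ((baseW.getD 0 []).getD 1 [])

theorem u_eq : u = z * y0 := by rw [u, u0, ev_append]; rfl

theorem u_pow : u ^ 17 = 1 := by
  have h := u0_chk
  simp only [Bool.and_eq_true] at h
  rw [u, ← ev_power]
  exact eq_of_same h.1.1.1.1

theorem u0_lt : ∀ s ∈ u0, s < 7 := by decide +kernel

theorem u_ne : u ≠ 1 := by
  have h := u0_chk
  simp only [Bool.and_eq_true, Bool.not_eq_true'] at h
  exact ne_of_not_agree u0_lt (by simp) h.1.1.1.2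

theorem u_order : orderOf u = 17 := orderOf_eq_prime (hp := ⟨by norm_num⟩) u_pow u_ne

theorem z_inverts : z * u * z = u⁻¹ := by
  have h := u0_chk
  simp only [Bool.and_eq_true] at h
  have h1 := eq_of_same h.1.1.2
  rw [ev_append, ev_append, ev_reverse (fun s _ => g_sq s) u0 u0_lt, ← mul_assoc] at h1
  exact h1

theorem z_mul_u : z * u = y0 := by rw [u_eq, ← mul_assoc, z_mul_self, one_mul]

theorem stab_det {y : P} (h : ∀ d : ℕ, He.piA y (He.piA (u ^ d) He.baseA) = He.piA (u ^ d) He.baseA) : y = 1 := by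
  have ok0 : c0.Ok He.actA (c0W ++ (c1W ++ c2W)) 660 := ⟨by decide +kernel, by decide +kernel, by decide +kernel⟩
  have ok1 : c1.Ok He.actA (c1W ++ c2W) 370 := ⟨by decide +kernel, by decide +kernel, by decide +kernel⟩
  have ok2 : c2.Ok He.actA c2W 234 := ⟨by decide +kernel, by decide +kernel, by decide +kernel⟩
  have ok3 : c3.Ok He.actA c3W 651 := ⟨by decide +kernel, by decide +kernel, by decide +kernel⟩
  have lev : LevR g He.actA He.piA (c0W ++ (c1W ++ c2W)) 1958400 [660, 370, 234, 651] :=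
    LevR.step homA (LevR.step homA (LevR.step homA (LevR.step homA LevR.nil ok3
      (by decide +kernel) (by decide +kernel) (by decide +kernel)) ok2
      (by decide +kernel) (by decide +kernel) (by decide +kernel)) ok1
      (by decide +kernel) (by decide +kernel) (by decide +kernel)) ok0
      (by decide +kernel) (by decide +kernel) (by decide +kernel)
  have hfix : He.actA.chkFix (c0W ++ (c1W ++ c2W)) 0 = true := by decide +kernel
  have hlet : Act.lettersOk He.actA.n (c0W ++ (c1W ++ c2W)) = true := by decide +kernel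
  have hv : val g (c0W ++ (c1W ++ c2W)) = stab He.piA He.baseA := by
    refine Subgroup.eq_of_le_of_card_ge ((Subgroup.closure_le _).2 ?_) ((card_stab He.trA He.card_eq).trans_le lev.le)
    rintro _ ⟨w, hw, rfl⟩
    exact mem_stab.2 (homA.apply_ev_eq hlet hfix hw)
  have hy : y ∈ val g (c0W ++ (c1W ++ c2W)) := by
    rw [hv, mem_stab]
    have := h 0
    rwa [pow_zero, map_one, Equiv.Perm.one_apply] at this
  refine lev.fix (le_of_eq ?_) y hy fun q hq => ?_
  · rw [hv]; exact card_stab He.trA He.card_eq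
  have key : ∀ n ∈ [660, 370, 234, 651], ∃ d < 17, He.actA.go (List.replicate d u0).flatten 0 = n := by decide +kernel
  obtain ⟨d, -, hd⟩ := key _ hq
  have e : He.piA (u ^ d) He.baseA = q := by
    refine Fin.ext ?_
    rw [u, ← ev_power, homA.apply_ev _ fun s hs => ?_]
    · exact hd
    · obtain ⟨l, hl, hsl⟩ := List.mem_flatten.1 hs
      exact u0_lt s (List.eq_of_mem_replicate hl ▸ hsl)
  rw [← e]
  exact h d

theorem commute_u {x : P} (hx : x * u = u * x) : x ∈ Subgroup.zpowers u := by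
  set C := Subgroup.centralizer ({u} : Set P) with hC
  have hchk := fun a ha => chkSubAll_ok a ha
  simp only [chkSubAll, Bool.and_eq_true] at hchk
  have hcard : Nat.card C ≤ 17 :=
    cyc_len ▸ card_centralizer_le_cycle homA (fun s _ => g_sq s) (x := He.baseA) (H := stabW)
      (by rw [show stabW = He.lv1W by decide +kernel]; exact He.stabA) (by decide +kernel)
      (fun a ha => (hchk a ha).1.1) (fun a ha => (hchk a ha).1.2) (u := u0) (by decide +kernel)
      (fun a ha => (hchk a ha).2) fun y hy => stab_det hy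
  have hle : Subgroup.zpowers u ≤ C := by
    rw [Subgroup.zpowers_le, hC, Subgroup.mem_centralizer_singleton_iff]
  have : Subgroup.zpowers u = C := Subgroup.eq_of_le_of_card_ge hle (by rwa [Nat.card_zpowers, u_order])
  rw [this, hC, Subgroup.mem_centralizer_singleton_iff]
  exact hx

theorem exists_pow {x : P} (hx : x ∈ Subgroup.zpowers u) : ∃ i : ℕ, i < 17 ∧ x = u ^ i := by
  classical
  rw [mem_zpowers_iff_mem_range_orderOf, u_order] at hx
  obtain ⟨i, hi, rfl⟩ := Finset.mem_image.1 hx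
  exact ⟨i, Finset.mem_range.1 hi, rfl⟩

theorem u_comm_pow (i k : ℕ) : (u ^ k)⁻¹ * u ^ i = u ^ i * (u ^ k)⁻¹ :=
  (((Commute.refl u).pow_pow k i).inv_left).eq

theorem z_conj_pow (k : ℕ) : z * u ^ k * z = (u ^ k)⁻¹ := by
  have h : (z * u * z) ^ k = (u⁻¹) ^ k := by rw [z_inverts]
  rw [inv_pow, show z * u * z = z * u * z⁻¹ by rw [z_inv], conj_pow, z_inv] at h
  exact h

theorem exists_conj_pow {x : P} (hx : x ^ 17 = 1) : ∃ (c : P) (i : ℕ), i < 17 ∧ x = c * u ^ i * c⁻¹ := by
  rcases eq_or_ne x 1 with rfl | hne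
  · exact ⟨1, 0, by norm_num, by simp⟩
  haveI : Fact (Nat.Prime 17) := ⟨by norm_num⟩
  have h1 : (Nat.card P).factorization 17 = 1 := by
    rw [card_P, show (4030387200 : ℕ) = 17 ^ 1 * 237081600 by norm_num, Nat.factorization_mul (by norm_num) (by norm_num),
      Finsupp.add_apply, Nat.Prime.factorization_pow (by norm_num), Finsupp.single_eq_same,
      Nat.factorization_eq_zero_of_not_dvd (show ¬ 17 ∣ 237081600 by norm_num)]
  have ox : orderOf x = 17 := orderOf_eq_prime hx hne
  let S : Sylow 17 P := Sylow.ofCard (Subgroup.zpowers u) (by rw [Nat.card_zpowers, u_order, h1]; norm_num)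
  let R : Sylow 17 P := Sylow.ofCard (Subgroup.zpowers x) (by rw [Nat.card_zpowers, ox, h1]; norm_num)
  obtain ⟨c, hc⟩ := MulAction.exists_smul_eq P S R
  have : x ∈ (c • S : Sylow 17 P) := by
    rw [hc]
    exact Subgroup.mem_zpowers x
  obtain ⟨y, hy, e⟩ := this
  obtain ⟨i, hi, rfl⟩ := exists_pow hy
  exact ⟨c, i, hi, e.symm⟩

theorem exists_y {y : P} (hy : y * y = 1) (h17 : (z * y) ^ 17 = 1) :
    ∃ (c : P) (i : ℕ), i < 17 ∧ c * z = z * c ∧ y = c * (z * u ^ i) * c⁻¹ := by
  obtain ⟨c, i, hi, e⟩ := exists_conj_pow h17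
  rcases Nat.eq_zero_or_pos i with rfl | hpos
  · refine ⟨1, 0, hi, by simp, ?_⟩
    have e1 : z * y = 1 := by rw [e]; simp
    rw [← mul_right_inj z, e1]
    simp [z_mul_self]
  have hyi : y⁻¹ = y := inv_eq_of_mul_eq_one_right hy
  have hinv : z * (z * y) * z = (z * y)⁻¹ := by
    rw [mul_inv_rev, hyi, z_inv, ← mul_assoc z z y, z_mul_self, one_mul]
  rw [e] at hinv
  set s := c⁻¹ * z * c with hs
  have hs2 : s * u ^ i * s = (u ^ i)⁻¹ := by
    calc s * u ^ i * s = c⁻¹ * (z * (c * u ^ i * c⁻¹) * z) * c := by rw [hs]; group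
      _ = (u ^ i)⁻¹ := by rw [hinv]; group
  have hss : s * s = 1 := by
    rw [hs, show c⁻¹ * z * c * (c⁻¹ * z * c) = c⁻¹ * (z * z) * c by group, z_mul_self]
    group
  have hcomm : (s * z) * u ^ i = u ^ i * (s * z) := by
    have a : z * u ^ i = (u ^ i)⁻¹ * z := by
      rw [← mul_left_inj z, z_conj_pow, mul_assoc, z_mul_self, mul_one]
    have b : s * (u ^ i)⁻¹ = u ^ i * s := by
      rw [← hs2]
      calc s * (s * u ^ i * s) = (s * s) * (u ^ i * s) := by simp only [mul_assoc]
        _ = u ^ i * s := by rw [hss, one_mul]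
    rw [mul_assoc, a, ← mul_assoc, b, mul_assoc]
  have hu : (s * z) * u = u * (s * z) := by
    have hcop : Nat.Coprime i (orderOf u) := by
      rw [u_order]
      exact ((Nat.Prime.coprime_iff_not_dvd (by norm_num : Nat.Prime 17)).2 fun hd => by
        have := Nat.le_of_dvd hpos hd; omega).symm
    obtain ⟨m, hm⟩ := exists_pow_eq_self_of_coprime hcop
    rw [← hm]
    exact (Commute.pow_right hcomm m).eq
  obtain ⟨j, -, hj⟩ := exists_pow (commute_u hu)
  set k := 9 * j with hk
  have hst : s = u ^ k * z * (u ^ k)⁻¹ := by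
    have h1 : z * (u ^ k)⁻¹ = u ^ k * z := by
      rw [← z_conj_pow, ← mul_assoc, ← mul_assoc, z_mul_self, one_mul]
    rw [mul_assoc, h1, ← mul_assoc, ← pow_add,
      show u ^ (k + k) = u ^ j by rw [show k + k = j + 17 * j by omega, pow_add, pow_mul, u_pow, one_pow, mul_one],
      ← hj, mul_assoc, z_mul_self, mul_one]
  have hcz : c * u ^ k * z * (c * u ^ k)⁻¹ = z := by
    calc c * u ^ k * z * (c * u ^ k)⁻¹ = c * (u ^ k * z * (u ^ k)⁻¹) * c⁻¹ := by group
      _ = c * s * c⁻¹ := by rw [hst]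
      _ = z := by rw [hs]; group
  refine ⟨c * u ^ k, i, hi, mul_inv_eq_iff_eq_mul.1 hcz, ?_⟩
  have h3 : y = z * (c * u ^ i * c⁻¹) := by rw [← e, ← mul_assoc, z_mul_self, one_mul]
  rw [h3]
  calc z * (c * u ^ i * c⁻¹) = (c * u ^ k * z * (c * u ^ k)⁻¹) * (c * u ^ i * c⁻¹) := by rw [hcz]
    _ = c * u ^ k * z * ((u ^ k)⁻¹ * u ^ i) * c⁻¹ := by group
    _ = c * u ^ k * z * (u ^ i * (u ^ k)⁻¹) * c⁻¹ := by rw [u_comm_pow]
    _ = c * u ^ k * (z * u ^ i) * (c * u ^ k)⁻¹ := by group

theorem exists_invol {x : P} (hx : x * x = 1) (hne : x ≠ 1) (hc : x * z = z * x) :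
    ∃ j < 575, x = ev g (invW.getD j []) := by
  obtain ⟨q, hq, h, hh, e⟩ := cent_products.2 x (Subgroup.mem_centralizer_singleton_iff.2 hc)
  have hq' : q < 128 := hq
  have hh' : h < 168 := hh
  have hn := chkInvol_ok (q * 168 + h) (by omega)
  rw [chkInvol, show (q * 168 + h) / 168 = q by omega, show (q * 168 + h) % 168 = h by omega] at hn
  simp only [force_eq, Bool.or_eq_true, Bool.not_eq_true', Bool.and_eq_true] at hn
  set w := qL.W.getD q [] ++ hL.W.getD h [] with hw
  have hx' : x = ev g w := by rw [hw, ev_append]; exact e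
  have hl : ∀ s ∈ w, s < 7 := fun s hs =>
    (List.mem_append.1 hs).elim (letters_el q_chk hq s) (letters_el h_chk hh s)
  rcases hn with (hn | hn) | ⟨hj, hsame⟩
  · refine absurd ?_ (ne_of_not_agree (fun s hs => (List.mem_append.1 hs).elim (hl s) (hl s)) (by simp) hn)
    rw [ev_append, ← hx']
    exact hx
  · refine absurd ?_ hne
    rw [hx']
    exact ev_eq_of_agree homA He.det (v := w) (w := [])
      (by simpa [Act.lettersOk, He.actA] using hl) (by simp [Act.lettersOk]) hn
  · exact ⟨_, Nat.le_of_ble_eq_true hj, hx'.trans (eq_of_same hsame)⟩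

/-- The images of the three generators of a standard triple. -/
noncomputable def X (k : ℕ) (s : ℕ) : P := ev g ((baseW.getD k []).getD s [])

theorem ev_subW (Y : List (List ℕ)) (w : List ℕ) : ev g (subW Y w) = ev (fun s => ev g (Y.getD s [])) w :=
  ev_subst g _ w

theorem len_base : ∀ k < 2, (baseW.getD k []).length = 3 := by decide +kernel

theorem ev_expr {s : ℕ} (hs : s < 7) : ev (X 0) (exprW.getD s []) = g s := by
  have h := eq_of_same (List.all_eq_true.1 expr_chk s (List.mem_range.2 hs))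
  rw [ev_subW] at h
  rw [show g s = ev g [s] by simp [ev]]
  exact h

theorem ext_aut {φ ψ : MulAut P} (h : ∀ s < 3, φ (X 0 s) = ψ (X 0 s)) : φ = ψ := by
  have key : ∀ s < 7, φ (g s) = ψ (g s) := fun s hs => by
    have h' : ∀ i, φ (X 0 i) = ψ (X 0 i) := fun i => by
      rcases Nat.lt_or_ge i 3 with hi | hi
      · exact h i hi
      · rw [X, List.getD_eq_default _ _ (show (baseW.getD 0 []).length ≤ i from (len_base 0 (by norm_num)).symm ▸ hi)]
        simp [ev]
    rw [← ev_expr hs]
    show φ.toMonoidHom (ev (X 0) _) = ψ.toMonoidHom (ev (X 0) _)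
    rw [ev_map, ev_map]
    exact congrArg (fun f => ev f _) (funext h')
  refine MulEquiv.toMonoidHom_injective (MonoidHom.eq_of_eqOn_dense g_gen ?_)
  rintro _ ⟨s, hs, rfl⟩
  exact key s hs

theorem base_facts {k : ℕ} (hk : k < 2) : X k 0 = z ∧ X k 1 * X k 1 = 1 ∧ X k 2 * X k 2 = 1 ∧ X k 2 ≠ 1 ∧
    X k 2 * z = z * X k 2 ∧ ∀ s, ∀ a ∈ (baseW.getD k []).getD s [], a < 7 := by
  have h := List.all_eq_true.1 base_chk k (List.mem_range.2 hk)
  simp only [Bool.and_eq_true, Bool.not_eq_true', List.all_eq_true] at h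
  obtain ⟨⟨⟨⟨⟨h0, h1⟩, h2⟩, h3⟩, h4⟩, h5⟩ := h
  have hl : ∀ s, ∀ a ∈ (baseW.getD k []).getD s [], a < 7 := fun s a ha => by
    rcases Nat.lt_or_ge s (baseW.getD k []).length with hs | hs
    · rw [List.getD_eq_getElem _ _ hs] at ha
      exact Nat.le_of_ble_eq_true (h5 _ (List.getElem_mem _) a ha)
    · rw [List.getD_eq_default _ _ hs] at ha; simp at ha
  have e4 := eq_of_same h4
  rw [ev_append, ev_append] at e4
  refine ⟨eq_of_same h0, ?_, ?_, ne_of_not_agree (hl 2) (by simp) h3, e4, hl⟩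
  · rw [X, ← ev_append]; exact eq_of_same h1
  · rw [X, ← ev_append]; exact eq_of_same h2

theorem trip_letters {i j : ℕ} : ∀ w ∈ tripW i j, ∀ s ∈ w, s < 7 := by
  have key : ((yW ++ invW).all fun w => w.all fun s => Nat.blt s 7) = true := by decide +kernel
  intro w hw s hs
  have aux : ∀ (L : List (List ℕ)) (n : ℕ), (∀ v ∈ L, v ∈ yW ++ invW) → s ∈ L.getD n [] → s < 7 := fun L n hL hm => by
    rcases Nat.lt_or_ge n L.length with hn | hn
    · rw [List.getD_eq_getElem _ _ hn] at hm
      exact Nat.le_of_ble_eq_true (List.all_eq_true.1 (List.all_eq_true.1 key _ (hL _ (List.getElem_mem _))) s hm)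
    · rw [List.getD_eq_default _ _ hn] at hm; simp at hm
  simp only [tripW, List.mem_cons, List.not_mem_nil, or_false] at hw
  rcases hw with rfl | rfl | rfl
  · rw [List.mem_singleton] at hs; omega
  · exact aux yW i (fun v hv => List.mem_append_left _ hv) hs
  · exact aux invW j (fun v hv => List.mem_append_right _ hv) hs

theorem exists_normal (φ : MulAut P) : ∃ (c : P) (k : ℕ), k < 2 ∧ ∀ s < 3, φ (X 0 s) = c * X k s * c⁻¹ := by
  obtain ⟨bz, b1, b2, b3, b4, -⟩ := base_facts (k := 0) (by norm_num)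
  have hcard : Nat.card (Subgroup.centralizer ({φ z} : Set P)) = 21504 := by
    rw [← card_Cz]
    refine (Nat.card_congr (φ.toEquiv.subtypeEquiv fun x => ?_)).symm
    rw [Subgroup.mem_centralizer_singleton_iff, Subgroup.mem_centralizer_singleton_iff]
    show x * z = z * x ↔ φ x * φ z = φ z * φ x
    rw [← map_mul, ← map_mul, φ.injective.eq_iff]
  obtain ⟨g₁, hg₁⟩ := isConj_iff.1 (conj_z (x := φ z) (by rw [MulEquiv.orderOf_eq, z_order]) hcard)
  set φ₁ : MulAut P := MulAut.conj g₁⁻¹ * φ with hφ₁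
  have f1 : φ₁ z = z := by
    simp only [hφ₁, MulAut.mul_apply, MulAut.conj_apply, ← hg₁]
    group
  have y0e : X 0 1 = y0 := rfl
  obtain ⟨c₁, i, hi, hc₁, hy⟩ := exists_y (y := φ₁ (X 0 1)) (by rw [← map_mul, b1, map_one]) (by
    rw [show z * φ₁ (X 0 1) = φ₁ (z * X 0 1) by rw [map_mul, f1], ← map_pow, y0e, ← u_eq, u_pow, map_one])
  set φ₂ : MulAut P := MulAut.conj c₁⁻¹ * φ₁ with hφ₂
  have f2 : φ₂ z = z := by
    simp only [hφ₂, MulAut.mul_apply, f1, MulAut.conj_apply, inv_inv]
    rw [mul_assoc, ← hc₁, inv_mul_cancel_left]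
  have f3 : φ₂ (X 0 1) = z * u ^ i := by
    simp only [hφ₂, MulAut.mul_apply, hy, MulAut.conj_apply]
    group
  obtain ⟨j, hj, hz⟩ := exists_invol (x := φ₂ (X 0 2)) (by rw [← map_mul, b2, map_one])
    (fun e => b3 (φ₂.injective (e.trans (map_one φ₂).symm)))
    (by rw [← f2, ← map_mul, b4, map_mul, f2])
  have him : ∀ s, φ₂ (X 0 s) = ev g ((tripW i j).getD s []) := by
    intro s
    rcases s with _ | _ | _ | s
    · rw [bz, f2]; rfl
    · show φ₂ (X 0 1) = ev g (yW.getD i [])
      rw [f3, ← eq_of_same (List.all_eq_true.1 y_chk i (List.mem_range.2 hi)), ev_append, ev_power]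
      rfl
    · exact hz
    · rw [X, List.getD_eq_default _ _ (show (baseW.getD 0 []).length ≤ s + 3 by rw [len_base 0 (by norm_num)]; omega),
        List.getD_eq_default _ _ (show (tripW i j).length ≤ s + 3 by simp [tripW])]
      simp [ev]
  have hn := chkPair_ok (i * 575 + j) (by omega)
  rw [chkPair, show (i * 575 + j) / 575 = i by omega, show (i * 575 + j) % 575 = j by omega, Bool.or_eq_true] at hn
  rcases hn with hn | hn
  · exfalso
    obtain ⟨r, hr, hbad⟩ := List.any_eq_true.1 hn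
    have hrel := List.all_eq_true.1 rel_chk r hr
    have h1 : ev g (subW (tripW i j) (List.replicate r.2 r.1).flatten) = 1 := by
      rw [ev_subW, show (fun s => ev g ((tripW i j).getD s [])) = fun s => φ₂.toMonoidHom (X 0 s) from
        funext fun s => (him s).symm, ← ev_map]
      show φ₂ (ev (X 0) _) = 1
      rw [show ev (X 0) (List.replicate r.2 r.1).flatten = 1 from (ev_subW _ _).symm.trans (eq_of_same hrel), map_one]
    have hlet : ∀ w : List ℕ, ∀ s ∈ subW (tripW i j) w, s < 7 := by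
      intro w s hs
      obtain ⟨_, hl, hsl⟩ := List.mem_flatten.1 hs
      obtain ⟨a, -, rfl⟩ := List.mem_map.1 hl
      rcases Nat.lt_or_ge a (tripW i j).length with ha | ha
      · rw [List.getD_eq_getElem _ _ ha] at hsl; exact trip_letters _ (List.getElem_mem _) s hsl
      · rw [List.getD_eq_default _ _ ha] at hsl; simp at hsl
    exact ne_of_not_agree (w := []) (hlet _) (by simp) (by simpa using hbad) h1
  · obtain ⟨⟨i', j', c, k⟩, ho, e⟩ := List.any_eq_true.1 hn
    have hs := List.all_eq_true.1 surv_chk _ ho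
    simp only [chkSurv, Bool.and_eq_true] at hs
    obtain ⟨⟨⟨hj', hk⟩, hcl⟩, ⟨s1, s2⟩, s3⟩ := hs
    have e' : i' * 575 + j' = i * 575 + j := Nat.eq_of_beq_eq_true e
    have hj575 : j' < 575 := Nat.le_of_ble_eq_true hj'
    obtain rfl : i' = i := by omega
    obtain rfl : j' = j := by omega
    have hcr : ∀ s ∈ c, s < 7 := fun s hs => Nat.le_of_ble_eq_true (List.all_eq_true.1 hcl s hs)
    have hk2 : k < 2 := Nat.le_of_ble_eq_true hk
    refine ⟨g₁ * c₁ * ev g c, k, hk2, fun s hs => ?_⟩
    have hstd : ev g c * X k s * (ev g c)⁻¹ = ev g ((tripW i' j').getD s []) := by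
      rw [← ev_reverse (fun s _ => g_sq s) c hcr, mul_assoc]
      interval_cases s
      · rw [(base_facts hk2).1, show z = ev g [3] from rfl, ← ev_append, ← ev_append]
        exact eq_of_same s1
      · rw [X, ← ev_append, ← ev_append]
        exact eq_of_same s2
      · rw [X, ← ev_append, ← ev_append]
        exact eq_of_same s3
    rw [← him s] at hstd
    have hφ : φ (X 0 s) = g₁ * c₁ * φ₂ (X 0 s) * (g₁ * c₁)⁻¹ := by
      simp only [hφ₂, hφ₁, MulAut.mul_apply, MulAut.conj_apply]
      group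
    rw [hφ, ← hstd]
    group

theorem exists_psi : ∃ ψ : MulAut P, ∀ s < 3, ψ (X 0 s) = X 1 s := by
  have hi : ∀ s, (if s < 7 then ev g (imgW.getD s []) else 1) * (if s < 7 then ev g (imgW.getD s []) else 1) = 1 := by
    intro s
    split_ifs with hs
    · rw [← ev_append]
      exact eq_of_same (List.all_eq_true.1 img_sq s (List.mem_range.2 hs))
    · simp
  have himg : ∀ s, (if s < 7 then ev g (imgW.getD s []) else 1) = ev g (imgW.getD s []) := fun s => by
    rcases Nat.lt_or_ge s 7 with hs | hs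
    · rw [if_pos hs]
    · rw [if_neg (by omega), List.getD_eq_default _ _ (show imgW.length ≤ s from hs)]
      rfl
  obtain ⟨π, hπ⟩ := He.pres.exists_hom (fun s => if s < 7 then ev g (imgW.getD s []) else 1) hi (fun w hw => by
    have := List.all_eq_true.1 img_rels w hw
    simp only [Bool.and_eq_true] at this
    have e := eq_of_same this.2
    rw [ev_subW] at e
    exact (congrArg (fun f => ev f w) (funext himg)).trans e) (fun s hs => if_neg (by
      have : He.alph.length ≤ s := hs
      simp only [He.alph, List.length_cons, List.length_nil] at this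
      omega))
  have hπ' : ∀ s, π (g s) = ev g (imgW.getD s []) := fun s => (hπ s).trans (himg s)
  have hinj : Function.Injective π := by
    have := He.isSimple
    rw [← MonoidHom.ker_eq_bot_iff]
    refine (π.normal_ker.eq_bot_or_eq_top).resolve_right fun htop => ?_
    have h3 : π (g 3) = 1 := MonoidHom.mem_ker.1 (htop ▸ Subgroup.mem_top _)
    rw [hπ'] at h3
    exact ne_of_not_agree (v := [3]) (w := []) (by decide) (by simp) (by decide +kernel) h3
  let ψ : MulAut P := MulEquiv.ofBijective π (Finite.injective_iff_bijective.1 hinj)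
  refine ⟨ψ, fun s hs => ?_⟩
  show ψ.toMonoidHom (ev g ((baseW.getD 0 []).getD s [])) = ev g ((baseW.getD 1 []).getD s [])
  rw [ev_map, ← eq_of_same (List.all_eq_true.1 img_base s (List.mem_range.2 hs)), ev_subW]
  exact congrArg (fun f => ev f _) (funext hπ')

theorem pow16_of_conj {c : P} (hz : c * z = z * c) (h : c * u * c⁻¹ = u ^ 3) : c ^ 16 = 1 := by
  have hk : ∀ k : ℕ, c ^ k * u * (c ^ k)⁻¹ = u ^ 3 ^ k := by
    intro k
    induction k with
    | zero => simp
    | succ k ih =>
      rw [pow_succ', show c * c ^ k * u * (c * c ^ k)⁻¹ = c * (c ^ k * u * (c ^ k)⁻¹) * c⁻¹ by group, ih,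
        ← conj_pow, h, ← pow_mul, ← pow_succ']
  have h16 : c ^ 16 * u * (c ^ 16)⁻¹ = u := by
    rw [hk, ← pow_mod_orderOf, u_order]
    rfl
  obtain ⟨i, -, hi⟩ := exists_pow (commute_u (mul_inv_eq_iff_eq_mul.1 h16))
  have hm : c ^ 16 ∈ Cz := pow_mem (Subgroup.mem_centralizer_singleton_iff.2 hz) 16
  have d1 : orderOf (c ^ 16) ∣ 17 := by
    rw [hi]
    exact orderOf_dvd_of_pow_eq_one (by rw [← pow_mul, mul_comm, pow_mul, u_pow, one_pow])
  have d2 := card_Cz ▸ Subgroup.orderOf_dvd_natCard _ hm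
  exact orderOf_eq_one_iff.1 (Nat.eq_one_of_dvd_coprimes (by norm_num : Nat.Coprime 17 21504) d1 d2)

theorem card_out : Nat.card (Cfsg.Out P) = 2 := by
  obtain ⟨ψ, hψ⟩ := exists_psi
  refine card_out_eq_two ψ ?_ fun φ => ?_
  · rintro ⟨c, hc⟩
    have hcX : ∀ s < 3, c * X 0 s * c⁻¹ = X 1 s := fun s hs => by rw [← hψ s hs, ← hc]; rfl
    have hz : c * z = z * c := by
      have := hcX 0 (by norm_num)
      rw [(base_facts (k := 0) (by norm_num)).1, (base_facts (k := 1) (by norm_num)).1] at this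
      exact mul_inv_eq_iff_eq_mul.1 this
    have hy : X 1 1 = z * u ^ 3 := by
      have h := u0_chk
      simp only [Bool.and_eq_true] at h
      have := eq_of_same h.2
      rw [ev_append, ev_power] at this
      exact this
    have h3 : c * u * c⁻¹ = u ^ 3 := by
      calc c * u * c⁻¹ = (c * z * c⁻¹) * (c * X 0 1 * c⁻¹) := by rw [u_eq, show y0 = X 0 1 from rfl]; group
        _ = u ^ 3 := by
          rw [hcX 1 (by norm_num), hy, mul_inv_eq_iff_eq_mul.2 hz, ← mul_assoc, z_mul_self, one_mul]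
    have c16 := pow16_of_conj hz h3
    obtain ⟨e⟩ := HeCent.nonempty_iso
    have c8 : c ^ 8 = 1 := by
      set x : Cz := ⟨c, Subgroup.mem_centralizer_singleton_iff.2 hz⟩
      have hx : x ^ 16 = 1 := Subtype.ext (by simpa using c16)
      have hM : (((e x : Subgroup.centralizer _) : HeCent.SL5) : Matrix (Fin 5) (Fin 5) (ZMod 2)) ^ 16 = 1 := by
        rw [← Matrix.SpecialLinearGroup.coe_pow, ← SubmonoidClass.coe_pow, ← map_pow, hx, map_one]
        rfl
      have hM8 := pow_eight_eq_one hM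
      rw [← Matrix.SpecialLinearGroup.coe_pow, ← SubmonoidClass.coe_pow, ← map_pow] at hM8
      have : x ^ 8 = 1 := e.injective (by
        rw [map_one]
        exact Subtype.ext (Subtype.ext hM8))
      simpa using congrArg Subtype.val this
    have hk : ∀ k : ℕ, c ^ k * u * (c ^ k)⁻¹ = u ^ 3 ^ k := by
      intro k
      induction k with
      | zero => simp
      | succ k ih =>
        rw [pow_succ', show c * c ^ k * u * (c * c ^ k)⁻¹ = c * (c ^ k * u * (c ^ k)⁻¹) * c⁻¹ by group, ih,
          ← conj_pow, h3, ← pow_mul, ← pow_succ']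
    have h8 := hk 8
    rw [c8, one_mul, inv_one, mul_one, ← pow_mod_orderOf, u_order, show 3 ^ 8 % 17 = 16 from rfl] at h8
    have h15 : u ^ 15 = 1 := by
      have h16 : u * u ^ 15 = u * 1 := by rw [← pow_succ', mul_one]; exact h8.symm
      exact mul_left_cancel h16
    have hd := orderOf_dvd_of_pow_eq_one h15
    rw [u_order] at hd
    norm_num at hd
  · obtain ⟨c, k, hk, hφ⟩ := exists_normal φ
    interval_cases k
    · exact Or.inl ⟨c, ext_aut fun s hs => (hφ s hs).symm⟩
    · refine Or.inr ⟨c, ?_⟩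
      rw [eq_mul_inv_iff_mul_eq]
      exact ext_aut fun s hs => by rw [MulAut.mul_apply, hψ s hs, hφ s hs]; rfl

end Cfsg.Agent.Spor.Cos.HeOut
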