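import Cfsg.Agent.Lib.Spor.Cos.HeOut.Base
import Cfsg.Agent.Lib.Spor.Cos.HeOut.CentData

/-! Data and checks for the outer automorphisms of the Held group. -/

set_option autoImplicit false
set_option maxRecDepth 100000
set_option maxHeartbeats 4000000

namespace Cfsg.Agent.Spor.Cos.HeOut

/-- The triple of a pair. -/
def tripW (i j : ℕ) : List (List ℕ) := [[3], yW.getD i [], invW.getD j []]

/-- A pair violates a relation or is listed. -/
noncomputable def chkPair (n : ℕ) : Bool :=
  (fun X : List (List ℕ) =>
    (relW.any fun r => !(agree He.actA ptsA (subW X (List.replicate r.2 r.1).flatten) [])) ||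
      survW.any fun o => Nat.beq (o.1 * 575 + o.2.1) n) (tripW (n / 575) (n % 575))

end Cfsg.Agent.Spor.Cos.HeOut
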