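import Cfsg.Agent.Lib.Spor.Cos.SubInv
import Cfsg.Agent.Lib.Spor.Cos.He.Lv0Data
import Cfsg.Agent.Lib.Spor.Cos.HeOut.Base
import Cfsg.Agent.Lib.Spor.Cos.HeOut.SubData

/-! Data and checks for the outer automorphisms of the Held group. -/

set_option autoImplicit false
set_option maxRecDepth 100000
set_option maxHeartbeats 4000000

namespace Cfsg.Agent.Spor.Cos.HeOut

/-- The words fixing the base point. -/
def stabW : List (List ℕ) :=
  [[0], [2], [3], [4], [5], [0, 1, 0, 1], [1, 2, 3, 4, 1, 2, 3, 4, 1, 2, 3, 4, 1, 2, 3, 4, 1, 2, 3, 4, 1, 2, 3, 4, 1, 2, 3, 4]]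

/-- The checks of a point. -/
noncomputable def chkSubAll (a : ℕ) : Bool :=
  chkTr He.actA He.lv0 He.lv0W 64 0 a && chkSub He.actA subT stabW a &&
    chkCycle He.actA He.lv0 He.lv0W 64 subT u0 0 8 cycL a

end Cfsg.Agent.Spor.Cos.HeOut
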