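import Cfsg.Agent.Lib.Spor.Cos.SubInv
import Cfsg.Agent.Lib.Spor.Cos.HeOut.Base
import Cfsg.Agent.Lib.Spor.Cos.HeOut.SylData

/-! Data and checks for the outer automorphisms of the Held group. -/

set_option autoImplicit false
set_option maxRecDepth 100000
set_option maxHeartbeats 4000000

namespace Cfsg.Agent.Spor.Cos.HeOut

/-- The checks of an element of the Sylow subgroup. -/
noncomputable def chkSyl (i : ℕ) : Bool :=
  chkClosedList He.actA ptsA 30 sylU sylK sylStep sylG 1024 i &&
    (fun w : List ℕ => !(agree He.actA ptsA (w ++ w) []) || Nat.beq i sylOne ||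
      force (conjU.at i) fun E => (fun c : List ℕ =>
        same (c ++ ((bif Nat.beq (E % 2) 0 then [3] else [0]) ++ c.reverse)) w) (decWord 30 (E >>> 1)))
      (decWord 30 (sylU.at i))

end Cfsg.Agent.Spor.Cos.HeOut
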